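import Cfsg.Agent.H51.GoldD
import Cfsg.Agent.H20.U3Syl
import Cfsg.Agent.H29.UDict
import Cfsg.Agent.H68.InstU

/-! The centraliser of an involution in `PGU₃(q)`, `q` even, and the field part of an
automorphism of `PSU₃(q)`. -/

set_option autoImplicit false
set_option linter.unusedSectionVars false

namespace Cfsg.Agent.H74.PGU3

open Subgroup Cfsg Cfsg.Agent.H10 Cfsg.Agent.H42 Cfsg.Agent.H49.U3 Matrix

variable {F : Type*} [Field F] [Fintype F] {q : ℕ} [hF : Fact (Fintype.card F = q ^ 2)]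

local notation "σ" => H10.cj F q
local notation "𝐡" => hermForm 3 F q

/-- The abstract shape of the centraliser of an involution of `PGU₃(q)`. -/
structure Cen {C : Type*} [Group C] (ι : UM F q →* C) : Prop where
  inj : Function.Injective ι
  two : ∀ (c : C) (k : ℕ), c ^ 2 ^ k = 1 → c ∈ ι.range
  cz : ∀ (c : C) (a : UM F q), a.x = 0 → c * ι a = ι a * c
  sq : ∀ c : C, (∀ a, c * ι a = ι a * c) → c * c = 1

theorem Cen.of_equiv {C D : Type*} [Group C] [Group D] {ι : UM F q →* C} (h : Cen ι)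
    (e : D ≃* C) : Cen (e.symm.toMonoidHom.comp ι) := by
  have key : ∀ (d : D) (a : UM F q), d * e.symm (ι a) = e.symm (ι a) * d ↔
      e d * ι a = ι a * e d := fun d a => by
    rw [← e.injective.eq_iff, map_mul, map_mul, e.apply_symm_apply]
  refine ⟨e.symm.injective.comp h.inj, fun c k hc => ?_, fun c a ha => (key c a).2 (h.cz _ a ha),
    fun c hc => e.injective ?_⟩
  · obtain ⟨a, ha⟩ := h.two (e c) k (by rw [← map_pow, hc, map_one])
    exact ⟨a, by simp [ha]⟩
  · rw [map_mul, map_one]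
    exact h.sq _ fun a => (key c a).1 (hc a)

variable [CharP F 2]

theorem center_two {z : GU 3 F q} (hz : z ∈ center (GU 3 F q)) {k : ℕ} (hk : z ^ 2 ^ k = 1) :
    z = 1 := by
  obtain ⟨c, hc⟩ := (mem_center_GU_iff (by norm_num) z).1 hz
  have h1 : ∀ n : ℕ, gm (z ^ n) = c ^ n • 1 := fun n => by
    induction n with
    | zero => simp [gm_one]
    | succ n ih => rw [pow_succ, gm_mul, ih, hc, smul_mul_smul_comm, mul_one, pow_succ]
  have h2 := h1 (2 ^ k)
  rw [hk, gm_one] at h2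
  have h3 : c ^ 2 ^ k = 1 := by simpa using (congrFun (congrFun h2 0) 0).symm
  apply gm_injective
  rw [hc, H51.eq_one_of_pow_two_pow h3, one_smul, gm_one]

theorem comm_lift {g s : GU 3 F q} {k : ℕ} (hs : s ^ 2 ^ k = 1)
    (h : (g : GU 3 F q ⧸ center (GU 3 F q)) * s = s * g) : g * s = s * g := by
  have h1 : g * s * g⁻¹ * s⁻¹ ∈ center (GU 3 F q) := by
    rw [← QuotientGroup.eq_one_iff, QuotientGroup.mk_mul, QuotientGroup.mk_mul,
      QuotientGroup.mk_mul, h, QuotientGroup.mk_inv, QuotientGroup.mk_inv]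
    group
  have h2 : Commute (g * s * g⁻¹ * s⁻¹) s := (mem_center_iff.1 h1 s).symm
  have h3 := h2.mul_pow (2 ^ k)
  rw [inv_mul_cancel_right, conj_pow, hs, mul_one, mul_one, mul_inv_cancel] at h3
  have h4 := center_two h1 h3.symm
  calc g * s = (g * s * g⁻¹ * s⁻¹) * (s * g) := by group
    _ = s * g := by rw [h4, one_mul]

variable {e w f : Fin 3 → F} (hfr : Frame q e w f)

/-- The unipotent subgroup inside `GU₃(q)`. -/
noncomputable def embG : UM F q →* GU 3 F q := (suToGU 3 F q).comp (UM.emb hfr)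

theorem embG_mulVec (a : UM F q) (v : Fin 3 → F) :
    gm (embG hfr a) *ᵥ v = v + (σ a.x * 𝐡 v w - a.y * 𝐡 v e) • e - (𝐡 v e * a.x) • w := by
  change eich q e (a.x • w) a.y *ᵥ v = _
  rw [eich_mulVec, herm_smul_right, smul_smul]

theorem embG_four (a : UM F q) : embG hfr a ^ 2 ^ 2 = 1 := by
  change embG hfr a ^ 4 = 1
  rw [← map_pow, H20.um_pow_four, map_one]

/-- The basic central involution of the model. -/
def z1 : UM F q := ⟨0, 1, by simp [CharTwo.add_self_eq_zero]⟩

theorem axis {g : GU 3 F q} (h : g * embG hfr z1 = embG hfr z1 * g) :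
    ∃ a : F, σ a * a = 1 ∧ gm g *ᵥ e = a • e := by
  have h1 := congrArg (fun m => gm m *ᵥ f) h
  simp only [gm_mul, ← mulVec_mulVec, embG_mulVec, z1, map_zero, zero_mul, one_mul, mul_zero,
    zero_smul, sub_zero, zero_sub, hfr.fe, mulVec_add, add_right_inj, neg_smul,
    mulVec_neg, neg_inj, one_smul] at h1
  refine ⟨_, ?_, h1⟩
  have h2 := gm_isIsom g f e
  rw [h1, herm_smul_right, hfr.fe] at h2
  exact h2

theorem herm_e {g : GU 3 F q} {a : F} (ha : σ a * a = 1) (h : gm g *ᵥ e = a • e)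
    (v : Fin 3 → F) : 𝐡 (gm g *ᵥ v) e = a * 𝐡 v e := by
  have h2 := gm_isIsom g v e
  rw [h, herm_smul_right] at h2
  rw [← h2, ← mul_assoc, mul_comm a, ha, one_mul]

theorem comm_Z {g : GU 3 F q} {a : F} (ha : σ a * a = 1) (h : gm g *ᵥ e = a • e) {b : UM F q}
    (hb : b.x = 0) : g * embG hfr b = embG hfr b * g := by
  refine GU_ext fun v => ?_
  change gm (g * embG hfr b) *ᵥ v = gm (embG hfr b * g) *ᵥ v
  simp only [gm_mul, ← mulVec_mulVec, embG_mulVec, hb, map_zero, zero_mul, mul_zero,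
    zero_smul, sub_zero, zero_sub, mulVec_add, mulVec_smul, h, herm_e ha h, smul_smul]
  congr 2
  ring

theorem mem_range {g : GU 3 F q} {a : F} (h : gm g *ᵥ e = a • e) {k : ℕ} (hk : g ^ 2 ^ k = 1) :
    g ∈ (embG hfr).range := by
  have hd : (gm g).det = 1 := by
    refine H51.eq_one_of_pow_two_pow (i := k) ?_
    rw [← det_pow]
    have : gm g ^ 2 ^ k = gm (g ^ 2 ^ k) := rfl
    rw [this, hk, gm_one, det_one]
  obtain ⟨s, rfl⟩ := (mem_range_suToGU g).2 hd
  have hs : s ^ 2 ^ k = 1 := suToGU_injective (by rw [map_pow, hk, map_one])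
  obtain ⟨h1, h2⟩ := H51.uniV_of_two_elt hfr.ee hfr.e_ne (a := s) (c := a) h hs
  obtain ⟨c, hc⟩ := h2 w hfr.we
  change sm s *ᵥ e = e at h1
  change sm s *ᵥ w = _ at hc
  have h3 : 𝐡 (sm s *ᵥ f) e = 1 := by
    have := sm_isIsom s f e
    rwa [h1, hfr.fe] at this
  set α := 𝐡 (sm s *ᵥ f) f
  set β := 𝐡 (sm s *ᵥ f) w
  have h4 : sm s *ᵥ f = α • e + β • w + f := by
    have := hfr.span (sm s *ᵥ f)
    rwa [h3, one_smul] at this
  have h5 := sm_isIsom s f f
  have h6 := sm_isIsom s w f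
  rw [h4] at h5
  rw [h4, hc] at h6
  simp only [herm_add_left, herm_add_right, herm_smul_left, herm_smul_right, hfr.ee, hfr.ff, hfr.fe,
    hfr.ww, hfr.we, hfr.wf, hfr.ef, hfr.ew, hfr.fw, mul_zero, mul_one, add_zero, zero_add] at h5 h6
  refine ⟨⟨-β, -α, by simp only [map_neg]; linear_combination -h5⟩, GU_ext fun v => ?_⟩
  change gm (embG hfr _) *ᵥ v = sm s *ᵥ v
  rw [embG_mulVec]
  conv_rhs => rw [hfr.span v, mulVec_add, mulVec_add, mulVec_smul, mulVec_smul, mulVec_smul, h1,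
    hc, h4]
  conv_lhs => rw [hfr.span v]
  simp only [herm_add_left, herm_smul_left, hfr.ee, hfr.fe, hfr.ww, hfr.we, hfr.ew, hfr.fw,
    mul_zero, mul_one, add_zero, zero_add, map_neg]
  rw [show c = -σ β by linear_combination h6]
  module

theorem sq_mem_center {g : GU 3 F q} (h : ∀ b, g * embG hfr b = embG hfr b * g) :
    g * g ∈ center (GU 3 F q) := by
  obtain ⟨a, ha, he⟩ := axis hfr (h z1)
  set α := 𝐡 (gm g *ᵥ f) f
  set β := 𝐡 (gm g *ᵥ f) w
  set γ := 𝐡 (gm g *ᵥ w) f
  set δ := 𝐡 (gm g *ᵥ w) w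
  have h4 : gm g *ᵥ f = α • e + β • w + a • f := by
    have := hfr.span (gm g *ᵥ f)
    rwa [herm_e ha he, hfr.fe, mul_one] at this
  have h5 : gm g *ᵥ w = γ • e + δ • w := by
    have := hfr.span (gm g *ᵥ w)
    rwa [herm_e ha he, hfr.we, mul_zero, zero_smul, add_zero] at this
  have key : ∀ x : F, x * δ = a * x ∧ x * γ = -(σ x * β) := fun x => by
    obtain ⟨b, rfl⟩ := UM.exists_x (q := q) x
    have h1 := congrArg (fun m => gm m *ᵥ f) (h b)
    simp only [gm_mul, ← mulVec_mulVec, embG_mulVec, mulVec_add, mulVec_sub, mulVec_smul, he, h5,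
      hfr.fe, hfr.fw, herm_e ha he] at h1
    have h2 := congrArg (𝐡 · w) h1
    have h3 := congrArg (𝐡 · f) h1
    simp only [herm_add_left, herm_sub_left, herm_smul_left, hfr.ww, hfr.wf, hfr.ef, hfr.ew,
      mul_zero, mul_one, add_zero, zero_add, one_mul, zero_sub, sub_zero] at h2 h3
    exact ⟨by linear_combination -h2, by linear_combination -h3⟩
  obtain ⟨d, hd⟩ := exists_cj_ne F q
  have k1 := key 1
  have k2 := (key d).2
  rw [map_one, one_mul, one_mul, one_mul, mul_one] at k1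
  have hβ : β = 0 := by
    rw [k1.2] at k2
    exact (mul_eq_zero.1 (show (σ d - d) * β = 0 by linear_combination k2)).resolve_left
      (sub_ne_zero.2 hd)
  have hγ : γ = 0 := by rw [k1.2, hβ, neg_zero]
  rw [hβ, zero_smul, add_zero] at h4
  rw [hγ, zero_smul, zero_add, k1.1] at h5
  refine (mem_center_GU_iff (by norm_num) _).2 ⟨a * a, ?_⟩
  refine Matrix.ext_of_mulVec_single fun i => ?_
  generalize (Pi.single i 1 : Fin 3 → F) = v
  rw [gm_mul, ← mulVec_mulVec, smul_mulVec, one_mulVec]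
  conv_lhs => rw [hfr.span v]
  conv_rhs => rw [hfr.span v]
  simp only [mulVec_add, mulVec_smul, he, h4, h5]
  have h2 : (2 : F) = 0 := CharTwo.two_eq_zero
  have : (𝐡 v e * (α * a) * 2) • e = 0 := by rw [h2, mul_zero, zero_smul]
  linear_combination (norm := module) this

theorem exists_cen : ∃ y : GU 3 F q ⧸ center (GU 3 F q), orderOf y = 2 ∧
    ∃ ι : UM F q →* centralizer ({y} : Set (GU 3 F q ⧸ center (GU 3 F q))), Cen ι := by
  obtain ⟨e, w, f, hfr⟩ := exists_frame (E := F) (q := q)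
  let π := QuotientGroup.mk' (center (GU 3 F q))
  let ι := π.comp (embG hfr)
  have hinj : Function.Injective ι := by
    rw [injective_iff_map_eq_one]
    intro a ha
    have h1 := center_two ((QuotientGroup.eq_one_iff _).1 ha) (embG_four hfr a)
    exact (suToGU_injective.comp (UM.emb_injective hfr)) (h1.trans (map_one (embG hfr)).symm)
  have hz : ∀ a, ι a ∈ centralizer ({ι z1} : Set _) := fun a => by
    rw [mem_centralizer_singleton_iff, ← map_mul, ← map_mul,
      mem_center_iff.1 (UM.mem_center_iff.2 (rfl : (z1 : UM F q).x = 0)) a]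
  have hax : ∀ g : GU 3 F q, π g ∈ centralizer ({ι z1} : Set _) →
      ∃ a : F, σ a * a = 1 ∧ gm g *ᵥ e = a • e := fun g hg =>
    axis hfr (comm_lift (embG_four hfr z1) (mem_centralizer_singleton_iff.1 hg))
  refine ⟨ι z1, ?_, ι.codRestrict _ hz, fun a b hab => hinj (congrArg Subtype.val hab),
    ?_, ?_, ?_⟩
  · rw [orderOf_injective _ hinj]
    refine orderOf_eq_prime (by rw [sq]; exact UM.sq_eq_one_iff.2 rfl) fun e => ?_
    exact one_ne_zero (congrArg UM.y e)
  · rintro ⟨c, hc⟩ k hk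
    obtain ⟨g, -, rfl, i, hi⟩ := H51.exists_two_elt_map' π (N := ⊤) (s := c)
      (by rw [map_top_of_surjective _ (QuotientGroup.mk'_surjective _)]; trivial) (i := k)
      (congrArg Subtype.val hk)
    obtain ⟨a, -, ha⟩ := hax g hc
    obtain ⟨b, rfl⟩ := mem_range hfr ha hi
    exact ⟨b, rfl⟩
  · rintro ⟨c, hc⟩ b hb
    obtain ⟨g, rfl⟩ := QuotientGroup.mk'_surjective _ c
    obtain ⟨a, ha, he⟩ := hax g hc
    exact Subtype.ext (congrArg π (comm_Z hfr ha he hb))
  · rintro ⟨c, hc⟩ h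
    obtain ⟨g, rfl⟩ := QuotientGroup.mk'_surjective _ c
    refine Subtype.ext ((QuotientGroup.eq_one_iff (g * g)).2 (sq_mem_center hfr fun b => ?_))
    exact comm_lift (embG_four hfr b) (congrArg Subtype.val (h b))

/-- An automorphism of `PSU₃(q)` fixing a full root subgroup has a field part of order at most
two. -/
theorem right_sq {γ : H29.GamU 3 F q}
    (h : ∀ (d : F) (hd : σ d = -d), H29.psuAut 3 F q γ (utSU hfr.ee hd : SU 3 F q) =
      (utSU hfr.ee hd : SU 3 F q)) : γ.1.right * γ.1.right = 1 := by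
  have hN : ∀ (d : F) (hd : σ d = -d), H29.gact γ.1 (d • vecMulVec e fun j => e j ^ q) =
      d • vecMulVec e fun j => e j ^ q := fun d hd => by
    have hsq : (d • vecMulVec e fun j => e j ^ q) * (d • vecMulVec e fun j => e j ^ q) = 0 := by
      rw [smul_mul_smul_comm, H29.vmv_sq (by rw [dotProduct_comm]; exact hfr.ee), smul_zero]
    exact H29.gact_eq_of_pautOf_eq (H29.suMat 3 F q) H29.suMat_inj (H29.GamU 3 F q) H29.gamU_norm
      (H29.su_center_scalar (by omega)) (γ := γ) (s := utSU hfr.ee hd) (t := utSU hfr.ee hd)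
      (h d hd) rfl hsq rfl hsq
  have h1 := hN 1 (by rw [map_one, CharTwo.neg_eq])
  rw [one_smul] at h1
  have h2 : ∀ d : F, σ d = d → γ.1.right d = d := fun d hd => by
    have h3 := hN d (by rw [hd, CharTwo.neg_eq])
    rw [H29.gact_smul, h1] at h3
    obtain ⟨i, hi⟩ := Function.ne_iff.1 hfr.e_ne
    have h4 := congrFun (congrFun h3 i) i
    simp only [Matrix.smul_apply, vecMulVec_apply, smul_eq_mul] at h4
    exact mul_right_cancel₀ (mul_ne_zero hi (pow_ne_zero _ hi)) h4
  refine RingEquiv.ext fun a => ?_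
  change γ.1.right (γ.1.right a) = a
  have h5 : ∀ x, γ.1.right (σ x) = σ (γ.1.right x) := fun x => by
    rw [cj_apply, cj_apply, map_pow]
  have h3 := h2 _ (cj_trace (q := q) a)
  have h4 := h2 _ (cj_norm (q := q) a)
  rw [map_add] at h3
  rw [map_mul] at h4
  have h6 : (γ.1.right a - a) * (γ.1.right a - σ a) = 0 := by
    linear_combination γ.1.right a * h3 - h4
  rcases mul_eq_zero.1 h6 with h7 | h7
  · rw [sub_eq_zero.1 h7, sub_eq_zero.1 h7]
  · rw [sub_eq_zero.1 h7, h5, sub_eq_zero.1 h7, H10.cj_cj]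

end Cfsg.Agent.H74.PGU3
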