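import Cfsg.Agent.H74.PGU3
import Cfsg.Agent.H50.Bender
import Cfsg.Agent.H29.Transport
import Cfsg.Agent.S1225

/-! Groups whose involution centralisers look like those of `PGU₃(q)`, `q` even. -/

set_option autoImplicit false
set_option linter.unusedSectionVars false

namespace Cfsg.Agent.H74.PGU3

open Subgroup Cfsg Cfsg.Agent.H10 Cfsg.Agent.H42 Cfsg.Agent.H49.U3 Matrix
open scoped Pointwise

theorem isConj_of_se {K : Type*} [Group K] [Finite K] {M : Subgroup K} (h : IsStronglyEmbedded M)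
    {a b : K} (ha : orderOf a = 2) (hb : orderOf b = 2) : IsConj a b := by
  obtain ⟨hne, hev, hM⟩ := H8.isStronglyEmbedded_iff.1 h
  obtain ⟨t, ht⟩ := exists_prime_orderOf_dvd_card' (G := M) 2 (even_iff_two_dvd.1 hev)
  obtain ⟨g, -, hg⟩ := SetLike.exists_of_lt (lt_top_iff_ne_top.2 hne)
  have ht' : orderOf (t : K) = 2 := by simpa using ht
  exact (S1225.result M h (g * t * g⁻¹) (by rw [← ht']; exact (MulAut.conj g).orderOf_eq _)
    (fun e => hg (hM t t.2 ht' g e)) t t ht' t.2 ht' t.2).2 a b ha hb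

variable {F : Type*} [Field F] [Fintype F] {q : ℕ} [hF : Fact (Fintype.card F = q ^ 2)]
  [CharP F 2] {G : Type*} [Group G] [Finite G]

local notation "σ" => H10.cj F q

/-- The ambient form of `Cen`. -/
structure Amb (x : G) (ι : UM F q →* G) : Prop where
  inj : Function.Injective ι
  two : ∀ (c : G) (k : ℕ), c * x = x * c → c ^ 2 ^ k = 1 → c ∈ ι.range
  cz : ∀ (c : G) (a : UM F q), c * x = x * c → a.x = 0 → c * ι a = ι a * c
  sq : ∀ c : G, c * x = x * c → (∀ a, c * ι a = ι a * c) → c * c = 1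

theorem Cen.amb {x : G} {ι : UM F q →* centralizer ({x} : Set G)} (h : Cen ι) :
    Amb x ((centralizer ({x} : Set G)).subtype.comp ι) := by
  refine ⟨Subtype.val_injective.comp h.inj, fun c k hc hk => ?_, fun c a hc ha => ?_,
    fun c hc ha => ?_⟩
  · obtain ⟨a, ha⟩ := h.two ⟨c, mem_centralizer_singleton_iff.2 hc⟩ k (Subtype.ext hk)
    exact ⟨a, congrArg Subtype.val ha⟩
  · exact congrArg Subtype.val (h.cz ⟨c, mem_centralizer_singleton_iff.2 hc⟩ a ha)
  · exact congrArg Subtype.val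
      (h.sq ⟨c, mem_centralizer_singleton_iff.2 hc⟩ fun a => Subtype.ext (ha a))

theorem Amb.eq_of_le {x : G} {ι : UM F q →* G} (h : Amb x ι) (S : Sylow 2 G)
    (hS : ∀ s ∈ S, s * x = x * s) : ι.range = S := by
  refine S.is_maximal' ?_ fun s hs => ?_
  · rintro ⟨_, a, rfl⟩
    exact ⟨2, Subtype.ext (by
      change ι a ^ 4 = 1
      rw [← map_pow, H20.um_pow_four, map_one])⟩
  · obtain ⟨k, hk⟩ := S.isPGroup' ⟨s, hs⟩
    exact h.two s k (hS s hs) (congrArg Subtype.val hk)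

/-- All involution centralisers have the shape `Amb`. -/
def AllAmb (F : Type*) [Field F] [Fintype F] (q : ℕ) [Fact (Fintype.card F = q ^ 2)] (G : Type*)
    [Group G] : Prop := ∀ x : G, orderOf x = 2 → ∃ ι : UM F q →* G, Amb x ι

theorem AllAmb.central (h : AllAmb F q G) (S : Sylow 2 G) {x : G} (hx : orderOf x = 2)
    (hxS : x ∈ S) : ∀ s ∈ S, s * x = x * s := by
  have : Nontrivial (S : Subgroup G) := ⟨⟨x, hxS⟩, 1, fun e => by
    have : x = 1 := congrArg Subtype.val e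
    rw [this, orderOf_one] at hx
    exact absurd hx (by decide)⟩
  have h1 := S.isPGroup'.center_nontrivial
  obtain ⟨z, hz⟩ := exists_prime_orderOf_dvd_card' (G := center (S : Subgroup G)) 2 (by
    obtain ⟨n, hn, e⟩ := ((S.isPGroup'.to_subgroup (center _)).nontrivial_iff_card).1 h1
    rw [e]; exact dvd_pow_self 2 hn.ne')
  obtain ⟨ι, hι⟩ := h ((z : (S : Subgroup G)) : G) (by rw [orderOf_coe, orderOf_coe, hz])
  have h2 := hι.eq_of_le S fun s hs => congrArg Subtype.val (mem_center_iff.1 z.2 ⟨s, hs⟩)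
  intro s hs
  obtain ⟨a, rfl⟩ : x ∈ ι.range := h2 ▸ hxS
  obtain ⟨b, rfl⟩ : s ∈ ι.range := h2 ▸ hs
  have ha : a * a = 1 := hι.inj (by rw [map_mul, map_one, ← sq, ← hx, pow_orderOf_eq_one])
  rw [← map_mul, ← map_mul, mem_center_iff.1 (UM.mem_center_iff.2 (UM.sq_eq_one_iff.1 ha)) b]

theorem AllAmb.range_eq (h : AllAmb F q G) (S : Sylow 2 G) {x : G} (hx : orderOf x = 2)
    (hxS : x ∈ S) {ι : UM F q →* G} (hι : Amb x ι) : ι.range = S :=
  hι.eq_of_le S (h.central S hx hxS)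

theorem AllAmb.ti (h : AllAmb F q G) (S : Sylow 2 G) {x : G} (hx : orderOf x = 2)
    (hxS : x ∈ S) {g : G} (hg : g * x * g⁻¹ ∈ S) : g ∈ normalizer ((S : Subgroup G) : Set G) := by
  obtain ⟨ι, hι⟩ := h x hx
  have h1 : x ∈ g⁻¹ • S := by
    change x ∈ ((g⁻¹ • S : Sylow 2 G) : Subgroup G)
    rw [Sylow.coe_subgroup_smul, mem_pointwise_smul_iff_inv_smul_mem, ← map_inv, inv_inv]
    exact hg
  have h2 : g⁻¹ • S = S := Sylow.ext ((h.range_eq _ hx h1 hι).symm.trans (h.range_eq S hx hxS hι))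
  exact inv_mem_iff.1 (Sylow.smul_eq_iff_mem_normalizer.1 h2)

theorem two_of_orderOf {x : G} (hx : orderOf x = 2) : x ^ 2 ^ 1 = 1 := by
  rw [pow_one, ← hx, pow_orderOf_eq_one]

theorem AllAmb.se (h : AllAmb F q G) (S : Sylow 2 G) (he : Even (Nat.card G))
    (hS : ¬ (S : Subgroup G).Normal) :
    IsStronglyEmbedded (normalizer ((S : Subgroup G) : Set G)) := by
  refine H8.isStronglyEmbedded_iff.2 ⟨fun e => hS (normalizer_eq_top_iff.1 e), ?_,
    fun t ht ho g hg => h.ti S ho (H51.mem_sylow_of_norm S ht (two_of_orderOf ho))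
      (H51.mem_sylow_of_norm S hg (two_of_orderOf ?_))⟩
  · exact even_iff_two_dvd.2 ((S.dvd_card_of_dvd_card he.two_dvd).trans
      (card_dvd_of_le le_normalizer))
  · rw [← ho]; exact (MulAut.conj g).orderOf_eq t

theorem AllAmb.eq_one (h : AllAmb F q G) (S : Sylow 2 G) (he : Even (Nat.card G)) {c : G}
    (hc : ∀ s ∈ S, c * s = s * c) (ho : Odd (orderOf c)) : c = 1 := by
  obtain ⟨x, hx⟩ := exists_prime_orderOf_dvd_card' (G := (S : Subgroup G)) 2
    (S.dvd_card_of_dvd_card he.two_dvd)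
  have hx' : orderOf (x : G) = 2 := by simpa using hx
  obtain ⟨ι, hι⟩ := h x hx'
  have h1 := hι.sq c (hc x x.2) fun a => hc _ (by
    change ι a ∈ (S : Subgroup G)
    rw [← h.range_eq S hx' x.2 hι]; exact ⟨a, rfl⟩)
  have h2 : orderOf c ∣ 2 := orderOf_dvd_of_pow_eq_one (by rw [sq, h1])
  exact orderOf_eq_one_iff.1 ((Nat.dvd_prime Nat.prime_two).1 h2 |>.resolve_right fun e => by
    rw [e] at ho; exact absurd ho (by decide))

theorem AllAmb.rank2 (h : AllAmb F q G) (hq : q ≠ 2) (he : Even (Nat.card G)) :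
    SUZ.Rank2 (⊤ : Subgroup G) := by
  obtain ⟨x, hx⟩ := exists_prime_orderOf_dvd_card' (G := G) 2 he.two_dvd
  obtain ⟨ι, hι⟩ := h x hx
  obtain ⟨c, hc, h0, h1⟩ := exists_fixed_ne (F := F) hq
  let a : UM F q := ⟨0, c, by simp [hc, CharTwo.add_self_eq_zero]⟩
  refine ⟨ι z1, trivial, ι a, trivial, fun e => ?_, fun e => ?_, fun e => ?_, ?_, ?_, ?_⟩
  · exact one_ne_zero (congrArg UM.y (hι.inj (e.trans (map_one ι).symm)))
  · exact h0 (congrArg UM.y (hι.inj (e.trans (map_one ι).symm)))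
  · exact h1 (congrArg UM.y (hι.inj e)).symm
  · rw [← map_mul, UM.sq_eq_one_iff.2 rfl, map_one]
  · rw [← map_mul, UM.sq_eq_one_iff.2 rfl, map_one]
  · rw [← map_mul, ← map_mul, mem_center_iff.1 (UM.mem_center_iff.2 (rfl : a.x = 0)) z1]

theorem AllAmb.exists_socle (h : AllAmb F q G) (hq : q ≠ 2) (he : Even (Nat.card G))
    (hS : ∀ P : Sylow 2 G, ¬ (P : Subgroup G).Normal) :
    ∃ L : Subgroup G, L.Normal ∧ Odd L.index ∧ Nonempty (L ≃* PSU 3 F q) ∧
      (∀ c : G, (∀ l ∈ L, c * l = l * c) → c = 1) ∧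
      ∀ a b : L, orderOf a = 2 → orderOf b = 2 → IsConj a b := by
  obtain ⟨S⟩ : Nonempty (Sylow 2 G) := inferInstance
  have hse := h.se S he (hS S)
  have r2 := h.rank2 hq he
  have hO : pPrimeCore 2 G = ⊥ := by
    rw [eq_bot_iff]
    intro o ho
    have ho2 := H50.odd_orderOf_of_mem_oddCore ho
    refine h.eq_one S he (fun s hs => ?_) ho2
    have hn := H50.oddCore_le_se hse r2 ho
    have h1 : o * s * o⁻¹ * s⁻¹ ∈ (S : Subgroup G) :=
      mul_mem ((mem_normalizer_iff.1 hn s).1 hs) (inv_mem hs)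
    have h2 : o * s * o⁻¹ * s⁻¹ ∈ pPrimeCore 2 G := by
      have := mul_mem ho ((inferInstance : (pPrimeCore 2 G).Normal).conj_mem _ (inv_mem ho) s)
      simpa only [mul_assoc] using this
    obtain ⟨k, hk⟩ := S.isPGroup' ⟨_, h1⟩
    have h3 : orderOf (o * s * o⁻¹ * s⁻¹) = 1 := Nat.eq_one_of_dvd_coprimes
      (Nat.Coprime.pow_right k (Nat.coprime_two_right.2 (H50.odd_orderOf_of_mem_oddCore h2)))
      dvd_rfl (orderOf_dvd_of_pow_eq_one (congrArg Subtype.val hk))
    rw [orderOf_eq_one_iff] at h3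
    calc o * s = (o * s * o⁻¹ * s⁻¹) * (s * o) := by group
      _ = s * o := by rw [h3, one_mul]
  obtain ⟨Q, t, -, -, hyp, hc⟩ := H50.bender_of_se (H50.se_of_se hse r2 hO)
  obtain ⟨T, rfl⟩ := H50.setup_sylow hyp.setup hc.pgroup
  obtain ⟨x, hx⟩ := exists_prime_orderOf_dvd_card' (G := (T : Subgroup G)) 2
    (T.dvd_card_of_dvd_card he.two_dvd)
  have hx' : orderOf (x : G) = 2 := by simpa using hx
  obtain ⟨ι, hι⟩ := h x hx'
  have hr := h.range_eq T hx' x.2 hι
  have c1 : Nat.card (T : Subgroup G) = q ^ 3 := by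
    rw [← hr, ← Nat.card_congr (MonoidHom.ofInjective hι.inj).toEquiv, UM.card]
  have c2 : Nat.card (SUZ.Q0 G ((1 : G) : G ⧸ normalizer ((S : Subgroup G) : Set G))) = q := by
    refine Eq.trans ?_ (UM.card_x_zero (F := F) (q := q))
    refine (Nat.card_congr (Equiv.ofBijective (fun a : {a : UM F q // a.x = 0} =>
      (⟨ι a.1, hyp.mem_Q0.2 ⟨hr ▸ ⟨a.1, rfl⟩, by
        rw [← map_mul, UM.sq_eq_one_iff.2 a.2, map_one]⟩⟩ : SUZ.Q0 G _))
      ⟨fun a b e => Subtype.ext (hι.inj (congrArg Subtype.val e)), fun y => ?_⟩)).symm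
    obtain ⟨h1, h2⟩ := hyp.mem_Q0.1 y.2
    rw [← hr] at h1
    obtain ⟨a, ha⟩ := h1
    exact ⟨⟨a, UM.sq_eq_one_iff.1 (hι.inj (by rw [map_mul, ha, h2, map_one]))⟩, Subtype.ext ha⟩
  have hTL : (T : Subgroup G) ≤ normalClosure ((T : Subgroup G) : Set G) := le_normalClosure
  have hq2 := two_le_q F q
  refine ⟨normalClosure ((T : Subgroup G) : Set G), inferInstance,
    SUZ.odd_index_normalClosure_Q hyp.setup, ?_, fun c hc => ?_, fun a b => isConj_of_se
      (M := (normalizer ((S : Subgroup G) : Set G)).subgroupOf _) ?_⟩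
  · rcases hc.cases with ⟨h1, -⟩ | ⟨h1, -⟩ | ⟨-, K, _, _, n, -, h2, h3, ⟨e⟩⟩
    · obtain ⟨a, ha⟩ := UM.exists_x (q := q) (1 : F)
      have h2 := h1 (ι a) (hr ▸ ⟨a, rfl⟩)
      have h3 := UM.sq_eq_one_iff.1 (hι.inj (by rw [map_mul, h2, map_one] : ι (a * a) = ι 1))
      exact absurd (ha.symm.trans h3) one_ne_zero
    · have h2 := h1.card
      rw [c1, c2] at h2
      exact absurd (Nat.pow_right_injective hq2 h2) (by decide)
    · rw [c2] at h2
      subst h2
      exact ⟨e.trans (H29.psuEquiv 3 _ (FiniteField.ringEquivOfCardEq (h3.trans hF.out.symm)))⟩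
  · have hK : centralizer (normalClosure ((T : Subgroup G) : Set G) : Set G) ≤
        normalizer ((T : Subgroup G) : Set G) := fun k hk =>
      centralizer_le_normalizer _ (centralizer_le hTL hk)
    have h1 := H50.odd_of_normal_le_se (h.se T he (hS T)) hK
    have h2 : c ∈ centralizer (normalClosure ((T : Subgroup G) : Set G) : Set G) :=
      fun l hl => (hc l hl).symm
    exact h.eq_one T he (fun s hs => hc s (hTL hs)) (h1.of_dvd_nat (orderOf_dvd_natCard _ h2))
  · obtain ⟨-, -, h3⟩ := H8.isStronglyEmbedded_iff.1 hse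
    have hxS : (x : G) ∈ normalizer ((S : Subgroup G) : Set G) := by
      have := hyp.setup.le x.2
      rwa [H50.stab_one_coset] at this
    refine H8.isStronglyEmbedded_iff.2 ⟨fun e => ?_, ?_, fun t ht ho g hg =>
      h3 t ht (by simpa using ho) g hg⟩
    · have h1 := H50.odd_of_normal_le_se hse (subgroupOf_eq_top.1 e)
      have h2 := h1.of_dvd_nat (orderOf_dvd_natCard _ (hTL x.2))
      rw [hx'] at h2
      exact absurd h2 (by decide)
    · refine even_iff_two_dvd.2 ?_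
      have := orderOf_dvd_natCard ((normalizer ((S : Subgroup G) : Set G)).subgroupOf
        (normalClosure ((T : Subgroup G) : Set G))) (x := ⟨x, hTL x.2⟩) (mem_subgroupOf.2 hxS)
      rwa [orderOf_mk, hx'] at this

theorem mem_of_odd_index {L : Subgroup G} [L.Normal] (hL : Odd L.index) {x : G}
    (hx : orderOf x = 2) : x ∈ L := by
  rw [← QuotientGroup.eq_one_iff, ← orderOf_eq_one_iff]
  refine Nat.eq_one_of_dvd_coprimes (Nat.coprime_two_left.2 hL) ?_ (orderOf_dvd_natCard _)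
  rw [← hx]
  exact orderOf_map_dvd (QuotientGroup.mk' L) x

theorem AllAmb.equiv (h : AllAmb F q G) (hq : q ≠ 2) (he : Even (Nat.card G))
    (hS : ∀ P : Sylow 2 G, ¬ (P : Subgroup G).Normal)
    (hconj : ∀ s t : G, orderOf s = 2 → orderOf t = 2 → IsConj s t)
    (hC : ∀ (x : G) (y : GU 3 F q ⧸ center (GU 3 F q)), orderOf x = 2 → orderOf y = 2 →
      Nat.card (centralizer ({x} : Set G)) =
        Nat.card (centralizer ({y} : Set (GU 3 F q ⧸ center (GU 3 F q))))) :
    Nonempty (G ≃* (GU 3 F q ⧸ center (GU 3 F q))) := by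
  obtain ⟨L, hL, hodd, ⟨ε⟩, hcent, hone⟩ := h.exists_socle hq he hS
  obtain ⟨e, w, f, hfr⟩ := exists_frame (E := F) (q := q)
  let θ : G →* MulAut (PSU 3 F q) := (MulAut.congr ε).toMonoidHom.comp MulAut.conjNormal
  have hθ : ∀ (g : G) (l : L), θ g (ε l) = ε (MulAut.conjNormal g l) := fun g l => by simp [θ]
  have hθL : ∀ l : L, θ l = MulAut.conj (ε l) := fun l => MulEquiv.ext fun u => by
    obtain ⟨m, rfl⟩ := ε.surjective u
    rw [hθ, MulAut.conj_apply, ← map_inv, ← map_mul, ← map_mul]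
    rfl
  have hθinj : Function.Injective θ := by
    rw [injective_iff_map_eq_one]
    intro c hc
    refine hcent c fun l hl => ?_
    have h1 := hθ c ⟨l, hl⟩
    rw [hc, MulAut.one_apply] at h1
    have h2 : l = c * l * c⁻¹ := congrArg Subtype.val (ε.injective h1)
    exact mul_inv_eq_iff_eq_mul.1 h2.symm
  have hsurj : Function.Surjective (H29.psuAut 3 F q) := by
    rw [← MonoidHom.range_eq_top, H29.range_psuAut, eq_top_iff]
    intro α _
    obtain ⟨γ, h1, h2⟩ := H68.aut_psu le_rfl (fun h => hq h.2) α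
    exact subset_closure ⟨γ.left, γ.right, h1, h2⟩
  obtain ⟨ρ, hρ⟩ := H29.exists_lift_of_surj (H29.psuAut 3 F q) hsurj
    (SemidirectProduct.rightHom.comp (H29.GamU 3 F q).subtype)
    fun γ hγ => (H29.psuAut_ker le_rfl γ hγ).1
  have hconjA : ∀ s : SU 3 F q, MulAut.conj (s : PSU 3 F q) =
      H29.psuAut 3 F q (H29.guInl 3 F q (suToGU 3 F q s)) := fun s =>
    H29.conj_eq_pautOf _ _ _ _ s (H29.su_inl_mem s)
  have hρL : ∀ l : L, ρ (θ l) = 1 := fun l => by
    obtain ⟨s, hs⟩ := QuotientGroup.mk_surjective (ε l)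
    rw [hθL, ← hs, hconjA, hρ]
    rfl
  have h1' : σ (1 : F) = -1 := by rw [map_one, CharTwo.neg_eq]
  have hut : ∀ (d : F) (hd : σ d = -d), utSU hfr.ee hd * utSU hfr.ee hd = 1 := fun d hd =>
    sm_injective (by
      rw [sm_mul, sm_utSU, ut_mul_ut, hfr.ee, mul_zero, add_zero, CharTwo.add_self_eq_zero, ut_zero,
        sm_one])
  let x : L := ε.symm (utSU hfr.ee h1' : SU 3 F q)
  have hx : orderOf x = 2 := by
    rw [MulEquiv.orderOf_eq]
    refine orderOf_eq_prime (by rw [sq, ← QuotientGroup.mk_mul, hut, QuotientGroup.mk_one])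
      fun e1 => ?_
    obtain ⟨c, hc⟩ := (mem_center_SU_iff (by norm_num) _).1 ((QuotientGroup.eq_one_iff _).1 e1)
    have h2 := congrArg (fun m => hermForm 3 F q (m *ᵥ f) f) hc
    simp [sm_utSU, ut_mulVec, smul_mulVec, herm_add_left, herm_smul_left, hfr.ff, hfr.fe,
      hfr.ef] at h2
  have hx' : orderOf (x : G) = 2 := by rw [orderOf_coe, hx]
  have hρG : ∀ g : G, ρ (θ g) = 1 := fun g => by
    obtain ⟨l, hl⟩ := isConj_iff.1 (hone (MulAut.conjNormal g x) x
      (by rw [MulEquiv.orderOf_eq, hx]) hx)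
    have hc : (l * g) * x = x * (l * g) := by
      have h2 : (l : G) * (g * x * g⁻¹) * (l : G)⁻¹ = x := congrArg Subtype.val hl
      calc (l : G) * g * x = (l * (g * x * g⁻¹) * (l : G)⁻¹) * (l * g) := by group
        _ = _ := by rw [h2]
    obtain ⟨γ, hγ⟩ := hsurj (θ (l * g))
    have h2 : γ.1.right * γ.1.right = 1 := right_sq hfr fun d hd => by
      rw [hγ]
      set y : L := ε.symm (utSU hfr.ee hd : SU 3 F q) with hy
      rw [← ε.apply_symm_apply (utSU hfr.ee hd : SU 3 F q), ← hy, hθ]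
      congr 1
      obtain ⟨ι, hι⟩ := h x hx'
      have h3 : y * y = 1 := by
        rw [hy, ← map_mul, ← QuotientGroup.mk_mul, hut, QuotientGroup.mk_one, map_one]
      have h4 : y * x = x * y := by
        rw [hy, ← map_mul, ← map_mul, ← QuotientGroup.mk_mul, ← QuotientGroup.mk_mul]
        congr 2
        exact sm_injective (by
          rw [sm_mul, sm_mul, sm_utSU, sm_utSU, ut_mul_ut, ut_mul_ut, add_comm d, mul_comm d])
      obtain ⟨a, ha⟩ := hι.two y 1 (congrArg Subtype.val h4) (by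
        rw [pow_one, sq]; exact congrArg Subtype.val h3)
      have h5 := hι.cz _ a hc (UM.sq_eq_one_iff.1 (hι.inj (by
        rw [map_mul, ha, map_one]; exact congrArg Subtype.val h3)))
      rw [ha] at h5
      exact Subtype.ext (mul_inv_eq_iff_eq_mul.2 h5)
    have h3 : ρ (θ g) = γ.1.right := by
      have := hρ γ
      rw [hγ, map_mul, map_mul, hρL, one_mul] at this
      exact this
    rw [← h3, ← sq] at h2
    have h4 : ρ (θ g) ^ L.index = 1 := by
      rw [← map_pow, ← map_pow]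
      exact hρL ⟨_, L.pow_index_mem g⟩
    exact orderOf_eq_one_iff.1 (Nat.eq_one_of_dvd_coprimes (Nat.coprime_two_left.2 hodd)
      (orderOf_dvd_of_pow_eq_one h2) (orderOf_dvd_of_pow_eq_one h4))
  let j0 := (H29.psuAut 3 F q).comp (H29.guInl 3 F q)
  have hk : center (GU 3 F q) = j0.ker := by
    ext g
    rw [mem_center_GU_iff (by norm_num), MonoidHom.mem_ker]
    exact ⟨fun ⟨c, hc⟩ => H29.pautOf_eq_one_of_scalar _ _ _ _ _ rfl hc,
      fun hg => (H29.psuAut_ker le_rfl _ hg).2⟩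
  let j : (GU 3 F q ⧸ center (GU 3 F q)) →* MulAut (PSU 3 F q) := QuotientGroup.lift _ j0 hk.le
  have hj : Function.Injective j := (QuotientGroup.injective_lift_iff _ _ _).2 hk
  have hr : ∀ g, θ g ∈ j.range := fun g => by
    obtain ⟨γ, hγ⟩ := hsurj (θ g)
    have h2 : γ.1.right = 1 := (hρ γ).symm.trans (hγ ▸ hρG g)
    refine ⟨(⟨γ.1.left, (H29.mem_gamU_iff _).1 γ.2⟩ : GU 3 F q), Eq.trans ?_ hγ⟩
    exact congrArg (H29.psuAut 3 F q) (Subtype.ext (SemidirectProduct.ext rfl h2.symm))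
  let κ := (MonoidHom.ofInjective hj).symm.toMonoidHom.comp (θ.codRestrict _ hr)
  have hκ : ∀ g, j (κ g) = θ g := fun g =>
    congrArg Subtype.val ((MonoidHom.ofInjective hj).apply_symm_apply ⟨θ g, hr g⟩)
  have hκi : Function.Injective κ := fun a b e => hθinj (by rw [← hκ, ← hκ, e])
  refine ⟨MulEquiv.ofBijective κ ⟨hκi, fun p => ?_⟩⟩
  have hy : orderOf (κ x) = 2 := by rw [orderOf_injective _ hκi, hx']
  have h2 : p * κ x * p⁻¹ = κ (ε.symm (j p (ε x)) : L) := hj (by
    rw [map_mul, map_mul, map_inv, hκ, hκ, hθL, hθL, ε.apply_symm_apply]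
    exact MulEquiv.ext fun u => by simp)
  obtain ⟨g, hg⟩ := isConj_iff.1 (hconj x (ε.symm (j p (ε x)) : L) hx' (by
    rw [orderOf_coe, MulEquiv.orderOf_eq, MulEquiv.orderOf_eq, MulEquiv.orderOf_eq, hx]))
  have h3 : (κ g)⁻¹ * p ∈ centralizer ({κ x} : Set _) := by
    rw [← hg, map_mul, map_mul, map_inv] at h2
    rw [mem_centralizer_singleton_iff]
    calc (κ g)⁻¹ * p * κ x = (κ g)⁻¹ * (p * κ x * p⁻¹) * p := by group
      _ = _ := by rw [h2]; group
  have h4 : Function.Bijective (fun c : centralizer ({(x : G)} : Set G) =>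
      (⟨κ c, mem_centralizer_singleton_iff.2 (by
        rw [← map_mul, ← map_mul, mem_centralizer_singleton_iff.1 c.2])⟩ :
          centralizer ({κ x} : Set _))) :=
    (Nat.bijective_iff_injective_and_card _).2
      ⟨fun a b e => Subtype.ext (hκi (congrArg Subtype.val e)), hC _ _ hx' hy⟩
  obtain ⟨c, hc⟩ := h4.2 ⟨_, h3⟩
  have h5 : κ c = (κ g)⁻¹ * p := congrArg Subtype.val hc
  exact ⟨g * c, by rw [map_mul, h5, mul_inv_cancel_left]⟩

end Cfsg.Agent.H74.PGU3
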